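import Cfsg.Agent.H777.PGrp
import Mathlib.GroupTheory.SpecificGroups.Cyclic
import Mathlib.GroupTheory.Index
import Mathlib.GroupTheory.QuotientGroup.Basic
import Mathlib.Tactic

/-!
# Two-groups: normal subgroups without a four-group normal in the whole group

`P` a finite 2-group, `N ⊴ P`. If `N` contains no four-group (elementary abelian of order 4) which is normal in `P`,
then `N` has a cyclic subgroup of index at most two.
-/

set_option autoImplicit false

namespace Cfsg.Agent.H706.Four

open Subgroup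

variable {P : Type*} [Group P]

/-- a proper inclusion of normal subgroups contains a central step of order two -/
theorem exists_step [Finite P] (hP : IsPGroup 2 P) {M N : Subgroup P} (hM : M.Normal) (hN : N.Normal)
    (hlt : M < N) : ∃ x ∈ N, x ∉ M ∧ x * x ∈ M ∧ ∀ g : P, g * x * g⁻¹ * x⁻¹ ∈ M := by
  have : Fact (Nat.Prime 2) := ⟨Nat.prime_two⟩
  have h1 : IsPGroup 2 (P ⧸ M) := hP.to_quotient M
  have h2 : (N.map (QuotientGroup.mk' M)) ≠ ⊥ := by
    intro h
    rw [Subgroup.map_eq_bot_iff, QuotientGroup.ker_mk'] at h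
    exact absurd h (not_le_of_gt hlt)
  have h3 : (N.map (QuotientGroup.mk' M)).Normal := hN.map _ (QuotientGroup.mk'_surjective M)
  -- central elements of order two in the image
  obtain ⟨b, hb, hb1, hbc⟩ := H777.PGrp.inf_center_ne_bot h1 h2 h3
  obtain ⟨k, hk⟩ := h1 b
  -- take the power of order two
  have h4 : ∃ j, b ^ 2 ^ j ≠ 1 ∧ b ^ 2 ^ (j + 1) = 1 := by
    by_contra hcon
    push Not at hcon
    have : ∀ j, b ^ 2 ^ j ≠ 1 := by
      intro j
      induction j with
      | zero => simpa using hb1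
      | succ j ih => exact hcon j ih
    exact this k hk
  obtain ⟨j, hj1, hj2⟩ := h4
  obtain ⟨x, hx, hxb⟩ : ∃ x ∈ N, QuotientGroup.mk' M x = b ^ 2 ^ j := by
    have := (N.map (QuotientGroup.mk' M)).pow_mem hb (2 ^ j)
    obtain ⟨x, hx, hxb⟩ := this
    exact ⟨x, hx, hxb⟩
  refine ⟨x, hx, ?_, ?_, ?_⟩
  · intro hxM
    exact hj1 (by rw [← hxb]; exact (QuotientGroup.eq_one_iff x).2 hxM)
  · rw [← QuotientGroup.eq_one_iff]
    show QuotientGroup.mk' M (x * x) = 1
    rw [map_mul, hxb, ← pow_add, ← two_mul, ← pow_succ']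
    exact hj2
  · intro g
    rw [← QuotientGroup.eq_one_iff]
    show QuotientGroup.mk' M (g * x * g⁻¹ * x⁻¹) = 1
    rw [map_mul, map_mul, map_mul, map_inv, map_inv, hxb]
    have hc : ∀ i : ℕ, QuotientGroup.mk' M g * b ^ i = b ^ i * QuotientGroup.mk' M g := fun i =>
      (Commute.pow_right (hbc _) i)
    rw [hc, mul_assoc (b ^ 2 ^ j), mul_inv_cancel, mul_one, mul_inv_cancel]

/-- the four-group of two commuting involutions -/
theorem exists_four_of {t y : P} (ht : t * t = 1) (ht1 : t ≠ 1) (hy : y * y = 1) (hy1 : y ≠ 1) (hyt : y ≠ t)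
    (hc : t * y = y * t) {N : Subgroup P} (htN : t ∈ N) (hyN : y ∈ N)
    (hgt : ∀ g : P, g * t * g⁻¹ = t) (hgy : ∀ g : P, g * y * g⁻¹ = y ∨ g * y * g⁻¹ = y * t) :
    ∃ E : Subgroup P, E ≤ N ∧ E.Normal ∧ (∀ x ∈ E, x * x = 1) ∧ Nat.card E = 4 := by
  have hyt2 : y * t * (y * t) = 1 := by
    rw [mul_assoc, ← mul_assoc t, hc, mul_assoc, ht, mul_one, hy]
  let E : Subgroup P :=
    { carrier := {1, t, y, y * t}
      mul_mem' := by
        intro a b ha hb
        simp only [Set.mem_insert_iff, Set.mem_singleton_iff] at ha hb ⊢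
        rcases ha with rfl | rfl | rfl | rfl <;> rcases hb with rfl | rfl | rfl | rfl
        · simp
        · simp
        · simp
        · simp
        · simp
        · simp [ht]
        · right; right; right; exact hc
        · right; right; left
          rw [← mul_assoc, hc, mul_assoc, ht, mul_one]
        · simp
        · simp
        · simp [hy]
        · right; left
          rw [← mul_assoc, hy, one_mul]
        · simp
        · right; right; left
          rw [mul_assoc, ht, mul_one]
        · right; left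
          rw [mul_assoc, hc, ← mul_assoc, hy, one_mul]
        · left; exact hyt2
      one_mem' := by simp
      inv_mem' := by
        intro a ha
        simp only [Set.mem_insert_iff, Set.mem_singleton_iff] at ha ⊢
        rcases ha with rfl | rfl | rfl | rfl
        · simp
        · right; left; exact inv_eq_of_mul_eq_one_left ht
        · right; right; left; exact inv_eq_of_mul_eq_one_left hy
        · right; right; right; exact inv_eq_of_mul_eq_one_left hyt2 }
  have hmem : ∀ x, x ∈ E ↔ x = 1 ∨ x = t ∨ x = y ∨ x = y * t := fun x => Iff.rfl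
  refine ⟨E, ?_, ⟨?_⟩, ?_, ?_⟩
  · intro x hx
    rcases (hmem x).1 hx with rfl | rfl | rfl | rfl
    · exact N.one_mem
    · exact htN
    · exact hyN
    · exact N.mul_mem hyN htN
  · intro x hx g
    rw [hmem]
    rcases (hmem x).1 hx with rfl | rfl | rfl | rfl
    · left; group
    · right; left; exact hgt g
    · rcases hgy g with h | h
      · right; right; left; exact h
      · right; right; right; exact h
    · have h1 : g * (y * t) * g⁻¹ = (g * y * g⁻¹) * (g * t * g⁻¹) := by group
      rw [h1, hgt]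
      rcases hgy g with h | h
      · right; right; right; rw [h]
      · right; right; left; rw [h, mul_assoc, ht, mul_one]
  · intro x hx
    rcases (hmem x).1 hx with rfl | rfl | rfl | rfl
    · exact mul_one 1
    · exact ht
    · exact hy
    · exact hyt2
  · have hset : (E : Set P) = (({1, t, y, y * t} : Set P)) := rfl
    have h1 : Nat.card E = (({1, t, y, y * t} : Set P)).ncard := by
      rw [← hset]
      rfl
    rw [h1]
    have ha : (1 : P) ∉ ({t, y, y * t} : Set P) := by
      simp only [Set.mem_insert_iff, Set.mem_singleton_iff, not_or]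
      refine ⟨fun h => ht1 h.symm, fun h => hy1 h.symm, fun h => hyt ?_⟩
      have : y = t⁻¹ := eq_inv_of_mul_eq_one_left h.symm
      rw [this]
      exact inv_eq_of_mul_eq_one_left ht
    have hb : t ∉ ({y, y * t} : Set P) := by
      simp only [Set.mem_insert_iff, Set.mem_singleton_iff, not_or]
      refine ⟨fun h => hyt h.symm, fun h => hy1 ?_⟩
      have : y * t = 1 * t := by rw [one_mul]; exact h.symm
      exact mul_right_cancel this
    have hc' : y ∉ ({y * t} : Set P) := by
      simp only [Set.mem_singleton_iff]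
      intro h
      exact ht1 (mul_left_cancel (a := y) (by rw [mul_one]; exact h.symm))
    rw [Set.ncard_insert_of_notMem ha, Set.ncard_insert_of_notMem hb, Set.ncard_insert_of_notMem hc',
      Set.ncard_singleton]

/-- the elements of order two of a cyclic group of order `2 ^ (n + 1)` -/
theorem uniq {a : P} {n : ℕ} (ha : orderOf a = 2 ^ (n + 1)) {b : P} (hb : b ∈ zpowers a) (hbb : b * b = 1) :
    b = 1 ∨ b = a ^ 2 ^ n := by
  obtain ⟨i, rfl⟩ := mem_zpowers_iff.1 hb
  have h1 : a ^ (i + i) = 1 := by rw [zpow_add]; exact hbb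
  have h2 := orderOf_dvd_iff_zpow_eq_one.2 h1
  rw [ha] at h2
  have h3 : ((2 ^ n : ℕ) : ℤ) ∣ i := by
    have : ((2 ^ (n + 1) : ℕ) : ℤ) = 2 * ((2 ^ n : ℕ) : ℤ) := by push_cast; ring
    rw [this, ← two_mul] at h2
    exact (mul_dvd_mul_iff_left two_ne_zero).1 h2
  obtain ⟨j, rfl⟩ := h3
  have h4 : (a ^ 2 ^ n) * (a ^ 2 ^ n) = 1 := by
    rw [← pow_add, ← two_mul, ← pow_succ', ← ha, pow_orderOf_eq_one]
  rw [zpow_mul, zpow_natCast]
  rcases Int.even_or_odd' j with ⟨l, rfl | rfl⟩
  · left
    rw [zpow_mul, show ((2 : ℤ)) = ((2 : ℕ) : ℤ) from rfl, zpow_natCast, pow_two, h4, one_zpow]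
  · right
    rw [zpow_add, zpow_mul, show ((2 : ℤ)) = ((2 : ℕ) : ℤ) from rfl, zpow_natCast, pow_two, h4, one_zpow, one_mul, zpow_one]

/-- LEMMA F -/
theorem cyc_of_no_four [Finite P] (hP : IsPGroup 2 P) {N : Subgroup P} (hN : N.Normal)
    (h : ∀ E : Subgroup P, E ≤ N → E.Normal → (∀ x ∈ E, x * x = 1) → Nat.card E ≠ 4) :
    ∃ C : Subgroup P, C ≤ N ∧ IsCyclic C ∧ C.relIndex N ≤ 2 := by
  classical
  have : Fact (Nat.Prime 2) := ⟨Nat.prime_two⟩
  obtain ⟨A, ⟨hAN, hAn, a, rfl⟩, hmax⟩ := (Set.toFinite {A : Subgroup P | A ≤ N ∧ A.Normal ∧ ∃ a, A = zpowers a}).exists_maximal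
    ⟨⊥, bot_le, inferInstance, 1, by simp⟩
  have hmax' : ∀ x : P, x ∈ N → (zpowers x).Normal → zpowers a ≤ zpowers x → x ∈ zpowers a := fun x hx hn hle =>
    hmax ⟨(zpowers_le.2 hx), hn, x, rfl⟩ hle (mem_zpowers x)
  clear hmax
  have haN : a ∈ N := hAN (mem_zpowers a)
  -- trivial case
  by_cases ha1 : a = 1
  · subst ha1
    by_cases hNb : N = ⊥
    · subst hNb
      exact ⟨⊥, le_rfl, inferInstance, by simp⟩
    · exfalso
      obtain ⟨t, ht, ht1, htt, htc⟩ := exists_step hP (M := ⊥) (N := N) inferInstance hN (bot_lt_iff_ne_bot.2 hNb)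
      have hc : ∀ g : P, g * t * g⁻¹ = t := fun g => mul_inv_eq_one.1 (mem_bot.1 (htc g))
      have := hmax' t ht ⟨fun x hx g => by
        obtain ⟨i, rfl⟩ := mem_zpowers_iff.1 hx
        rw [← conj_zpow, hc]
        exact zpow_mem (mem_zpowers t) i⟩ (by simp)
      rw [zpowers_one_eq_bot] at this
      exact ht1 this
  obtain ⟨n, hn⟩ : ∃ n, orderOf a = 2 ^ (n + 1) := by
    obtain ⟨k, hk⟩ := (IsPGroup.iff_orderOf.1 hP) a
    rcases k with _ | k
    · exact absurd (orderOf_eq_one_iff.1 (by rw [hk, pow_zero])) ha1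
    · exact ⟨k, hk⟩
  set t : P := a ^ 2 ^ n with ht_def
  have htA : t ∈ zpowers a := pow_mem (mem_zpowers a) _
  have htt : t * t = 1 := by
    rw [ht_def, ← pow_add, ← two_mul, ← pow_succ', ← hn, pow_orderOf_eq_one]
  have ht1 : t ≠ 1 := by
    intro h1
    have := orderOf_dvd_iff_pow_eq_one.2 h1
    rw [hn, pow_succ] at this
    have h2 := Nat.le_of_dvd (by positivity) this
    have h3 : 0 < 2 ^ n := by positivity
    omega
  have hu : ∀ b ∈ zpowers a, b * b = 1 → b = 1 ∨ b = t := fun b hb hbb => uniq hn hb hbb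
  have hconjA : ∀ g : P, ∀ b ∈ zpowers a, g * b * g⁻¹ ∈ zpowers a := fun g b hb => hAn.conj_mem b hb g
  have htc : ∀ g : P, g * t * g⁻¹ = t := by
    intro g
    rcases hu _ (hconjA g t htA) (by
      have : g * t * g⁻¹ * (g * t * g⁻¹) = g * (t * t) * g⁻¹ := by group
      rw [this, htt]; group) with h1 | h1
    · exfalso
      apply ht1
      have : t = g⁻¹ * (g * t * g⁻¹) * g := by group
      rw [this, h1]; group
    · exact h1
  have htc' : ∀ g : P, g * t = t * g := fun g => mul_inv_eq_iff_eq_mul.1 (htc g)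
  have hcomA : ∀ b ∈ zpowers a, ∀ c ∈ zpowers a, b * c = c * b := by
    intro b hb c hc
    obtain ⟨i, rfl⟩ := mem_zpowers_iff.1 hb
    obtain ⟨j, rfl⟩ := mem_zpowers_iff.1 hc
    exact (Commute.refl a).zpow_zpow i j
  -- four-group from a suitable involution
  have hfour : ∀ y : P, y ∈ N → y ∉ zpowers a → y * y = 1 → (∀ g : P, g * y * g⁻¹ * y⁻¹ ∈ zpowers a) →
      (∀ b ∈ zpowers a, b * y * (b * y) = 1 → b = 1 ∨ b = t) → False := by
    intro y hy hyA hyy hg hb
    obtain ⟨E, hEN, hEn, hEe, hEc⟩ := exists_four_of htt ht1 hyy (fun h1 => hyA (h1 ▸ one_mem _))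
      (fun h1 => hyA (h1 ▸ htA)) (htc' y).symm (hAN htA) hy htc (fun g => by
        have h1 : g * y * g⁻¹ = (g * y * g⁻¹ * y⁻¹) * y := by group
        rcases hb _ (hg g) (by
          rw [← h1]
          have : g * y * g⁻¹ * (g * y * g⁻¹) = g * (y * y) * g⁻¹ := by group
          rw [this, hyy]; group) with h2 | h2
        · left; rw [h1, h2, one_mul]
        · right; rw [h1, h2, htc'])
    exact h E hEN hEn hEe hEc
  -- the centraliser
  have hself : ∀ x ∈ N, x * a = a * x → x ∈ zpowers a := by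
    by_contra hcon
    push Not at hcon
    obtain ⟨x₀, hx₀N, hx₀c, hx₀A⟩ := hcon
    have hcn : (centralizer ((zpowers a : Subgroup P) : Set P)).Normal := by
      have := hAn
      infer_instance
    have hle : zpowers a ≤ N ⊓ centralizer ((zpowers a : Subgroup P) : Set P) := by
      refine le_inf hAN fun b hb => ?_
      rw [mem_centralizer_iff]
      intro c hc
      exact hcomA c hc b hb
    have hlt : zpowers a < N ⊓ centralizer ((zpowers a : Subgroup P) : Set P) := by
      refine lt_of_le_of_ne hle fun heq => hx₀A ?_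
      rw [heq]
      refine ⟨hx₀N, ?_⟩
      show x₀ ∈ centralizer ((zpowers a : Subgroup P) : Set P)
      rw [mem_centralizer_iff]
      intro c hc
      obtain ⟨i, rfl⟩ := mem_zpowers_iff.1 hc
      exact ((show Commute x₀ a from hx₀c).zpow_right i).symm
    have hinf : (N ⊓ centralizer ((zpowers a : Subgroup P) : Set P)).Normal := inferInstance
    obtain ⟨x, ⟨hxN, hxc⟩, hxA, hxx, hxg⟩ := exists_step hP hAn hinf hlt
    have hxc' : ∀ b ∈ zpowers a, b * x = x * b := fun b hb => (mem_centralizer_iff.1 hxc) b hb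
    obtain ⟨m, hm⟩ := mem_zpowers_iff.1 hxx
    rcases Int.even_or_odd' m with ⟨m', rfl | rfl⟩
    · -- even: an involution
      have hb : a ^ (-m') ∈ zpowers a := zpow_mem (mem_zpowers a) _
      refine hfour (x * a ^ (-m')) (N.mul_mem hxN (hAN hb)) (fun h1 => hxA ?_) ?_ ?_ ?_
      · have h2 := (zpowers a).mul_mem h1 (zpow_mem (mem_zpowers a) m')
        rw [mul_assoc, ← zpow_add, neg_add_cancel, zpow_zero, mul_one] at h2
        exact h2
      · have h1 : x * a ^ (-m') * (x * a ^ (-m')) = x * x * (a ^ (-m') * a ^ (-m')) := by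
          rw [mul_assoc, ← mul_assoc (a ^ (-m')), hxc' _ hb]
          group
        rw [h1, ← hm, ← zpow_add, ← zpow_add]
        have : 2 * m' + (-m' + -m') = 0 := by ring
        rw [this, zpow_zero]
      · intro g
        have h1 : g * (x * a ^ (-m')) * g⁻¹ * (x * a ^ (-m'))⁻¹ =
            (g * x * g⁻¹ * x⁻¹) * (x * ((g * a ^ (-m') * g⁻¹) * (a ^ (-m'))⁻¹) * x⁻¹) := by group
        rw [h1]
        exact mul_mem (hxg g) (hconjA x _ (mul_mem (hconjA g _ hb) (inv_mem hb)))
      · intro b hbA h1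
        apply hu b hbA
        have h2 : b * (x * a ^ (-m')) * (b * (x * a ^ (-m'))) = (b * b) * (x * x * (a ^ (-m') * a ^ (-m'))) := by
          have e1 : x * a ^ (-m') * b = b * (x * a ^ (-m')) := by
            rw [mul_assoc, hcomA _ hb b hbA, ← mul_assoc, ← hxc' b hbA, mul_assoc]
          have e2 : a ^ (-m') * x = x * a ^ (-m') := hxc' _ hb
          calc b * (x * a ^ (-m')) * (b * (x * a ^ (-m'))) = b * (x * a ^ (-m') * b) * (x * a ^ (-m')) := by group
            _ = b * b * (x * (a ^ (-m') * x) * a ^ (-m')) := by rw [e1]; group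
            _ = _ := by rw [e2]; group
        rw [h2, ← hm, ← zpow_add, ← zpow_add] at h1
        have e3 : 2 * m' + (-m' + -m') = 0 := by ring
        rw [e3, zpow_zero, mul_one] at h1
        exact h1
    · -- odd: a bigger cyclic group
      have hax : a ∈ zpowers x := by
        have h1 : a ^ (2 * m' + 1) ∈ zpowers x := by
          rw [hm]
          exact mul_mem (mem_zpowers x) (mem_zpowers x)
        have hcop : IsCoprime (2 * m' + 1) ((2 ^ (n + 1) : ℕ) : ℤ) := by
          push_cast
          apply IsCoprime.pow_right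
          exact ⟨1, -m', by ring⟩
        obtain ⟨p, q, hpq⟩ := hcop
        have h2 : a = (a ^ (2 * m' + 1)) ^ p := by
          rw [← zpow_mul]
          have h3 : (2 * m' + 1) * p = 1 - ((2 ^ (n + 1) : ℕ) : ℤ) * q := by linarith
          rw [h3, zpow_sub, zpow_mul, zpow_natCast, ← hn, pow_orderOf_eq_one, one_zpow, zpow_one, inv_one, mul_one]
        rw [h2]
        exact zpow_mem h1 p
      have hle2 : zpowers a ≤ zpowers x := zpowers_le.2 hax
      refine hxA (hmax' x hxN ⟨fun w hw g => ?_⟩ hle2)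
      obtain ⟨i, rfl⟩ := mem_zpowers_iff.1 hw
      rw [← conj_zpow]
      apply zpow_mem
      have h1 : g * x * g⁻¹ = (g * x * g⁻¹ * x⁻¹) * x := by group
      rw [h1]
      exact mul_mem (hle2 (hxg g)) (mem_zpowers x)
  -- order two
  rcases Nat.eq_zero_or_pos n with hn0 | hn0
  · subst hn0
    have hat : a = t := by rw [ht_def]; simp
    refine ⟨zpowers a, hAN, inferInstance, ?_⟩
    have h1 : N ≤ zpowers a := fun x hx => hself x hx (by rw [hat]; exact htc' x)
    rw [relIndex_eq_one.2 h1]
    omega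
  obtain ⟨n, rfl⟩ : ∃ n', n = n' + 1 := ⟨n - 1, by omega⟩
  -- the element of order four
  set u : P := a ^ 2 ^ n with hu_def
  have huA : u ∈ zpowers a := pow_mem (mem_zpowers a) _
  have huu : u * u = t := by
    rw [hu_def, ht_def, ← pow_add, ← two_mul, ← pow_succ']
  have hconju : ∀ g : P, g * u * g⁻¹ = u ∨ g * u * g⁻¹ = u * t := by
    intro g
    have h1 : g * u * g⁻¹ * u⁻¹ ∈ zpowers a := mul_mem (hconjA g u huA) (inv_mem huA)
    have h2 : g * u * g⁻¹ * u⁻¹ * (g * u * g⁻¹ * u⁻¹) = 1 := by
      have e1 : u⁻¹ * (g * u * g⁻¹) = (g * u * g⁻¹) * u⁻¹ := hcomA _ (inv_mem huA) _ (hconjA g u huA)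
      calc g * u * g⁻¹ * u⁻¹ * (g * u * g⁻¹ * u⁻¹) = g * u * g⁻¹ * (u⁻¹ * (g * u * g⁻¹)) * u⁻¹ := by group
        _ = g * (u * u) * g⁻¹ * (u * u)⁻¹ := by rw [e1]; group
        _ = 1 := by rw [huu, htc, mul_inv_cancel]
    rcases hu _ h1 h2 with h3 | h3
    · left; exact mul_inv_eq_one.1 h3
    · right
      rw [mul_inv_eq_iff_eq_mul] at h3
      rw [h3, htc']
  have hcommu : ∀ x y : P, (x * u * x⁻¹ = u ↔ y * u * y⁻¹ = u) → x⁻¹ * y * u = u * (x⁻¹ * y) := by
    intro x y hxy
    have hut : u * t ≠ u := fun h1 => ht1 (mul_left_cancel (a := u) (by rw [h1, mul_one]))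
    have h1 : x * u * x⁻¹ = y * u * y⁻¹ := by
      rcases hconju x with h1 | h1 <;> rcases hconju y with h2 | h2
      · rw [h1, h2]
      · exact absurd (h2 ▸ hxy.1 h1) hut
      · exact absurd (h1 ▸ hxy.2 h2) hut
      · rw [h1, h2]
    calc x⁻¹ * y * u = x⁻¹ * (y * u * y⁻¹) * y := by group
      _ = x⁻¹ * (x * u * x⁻¹) * y := by rw [h1]
      _ = u * (x⁻¹ * y) := by group
  -- the centraliser of `u` in `N`
  have hcu : ∀ x ∈ N, x * u = u * x → x ∈ zpowers a := by
    by_contra hcon
    push Not at hcon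
    obtain ⟨x₀, hx₀N, hx₀c, hx₀A⟩ := hcon
    have hun : (zpowers u).Normal := ⟨fun w hw g => by
      obtain ⟨i, rfl⟩ := mem_zpowers_iff.1 hw
      rw [← conj_zpow]
      apply zpow_mem
      rcases hconju g with h1 | h1
      · rw [h1]; exact mem_zpowers u
      · rw [h1, ← huu]
        exact mul_mem (mem_zpowers u) (mul_mem (mem_zpowers u) (mem_zpowers u))⟩
    have hcn : (centralizer ((zpowers u : Subgroup P) : Set P)).Normal := by
      have := hun
      infer_instance
    have hle : zpowers a ≤ N ⊓ centralizer ((zpowers u : Subgroup P) : Set P) := by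
      refine le_inf hAN fun b hb => ?_
      rw [mem_centralizer_iff]
      intro c hc
      exact hcomA c (zpowers_le.2 huA hc) b hb
    have hlt : zpowers a < N ⊓ centralizer ((zpowers u : Subgroup P) : Set P) := by
      refine lt_of_le_of_ne hle fun heq => hx₀A ?_
      rw [heq]
      refine ⟨hx₀N, ?_⟩
      show x₀ ∈ centralizer ((zpowers u : Subgroup P) : Set P)
      rw [mem_centralizer_iff]
      intro c hc
      obtain ⟨i, rfl⟩ := mem_zpowers_iff.1 hc
      exact ((show Commute x₀ u from hx₀c).zpow_right i).symm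
    have hinf : (N ⊓ centralizer ((zpowers u : Subgroup P) : Set P)).Normal := inferInstance
    obtain ⟨x, ⟨hxN, hxc⟩, hxA, hxx, hxg⟩ := exists_step hP hAn hinf hlt
    have hxu : x * u = u * x := ((mem_centralizer_iff.1 hxc) u (mem_zpowers u)).symm
    -- the action on `a`
    obtain ⟨k, hk⟩ := mem_zpowers_iff.1 (hconjA x a (mem_zpowers a))
    have hk4 : (4 : ℤ) ∣ k - 1 := by
      have h1 : u ^ k = u := by
        have e1 : x * u * x⁻¹ = u := by rw [hxu]; group
        have e2 : x * u * x⁻¹ = u ^ k := by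
          rw [hu_def, ← conj_pow, ← hk, ← zpow_natCast, ← zpow_natCast, ← zpow_mul, ← zpow_mul, mul_comm]
        rw [← e2, e1]
      have h2 : u ^ (k - 1) = 1 := by rw [zpow_sub, h1, zpow_one, mul_inv_cancel]
      have h3 : a ^ ((2 ^ n : ℕ) * (k - 1)) = 1 := by
        rw [zpow_mul, zpow_natCast]; exact h2
      have h4 := orderOf_dvd_iff_zpow_eq_one.2 h3
      rw [hn] at h4
      have h5 : ((2 ^ (n + 1 + 1) : ℕ) : ℤ) = ((2 ^ n : ℕ) : ℤ) * 4 := by push_cast; ring
      rw [h5] at h4
      exact (mul_dvd_mul_iff_left (by positivity)).1 h4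
    have hxxa : x * x * a * (x * x)⁻¹ = a := by
      rw [hcomA _ hxx a (mem_zpowers a)]; group
    have hkk : a ^ (k * k) = a := by
      have e1 : x * x * a * (x * x)⁻¹ = x * (x * a * x⁻¹) * x⁻¹ := by group
      rw [e1, ← hk, ← conj_zpow, ← hk, ← zpow_mul] at hxxa
      exact hxxa
    have hk2 : ((2 ^ (n + 1) : ℕ) : ℤ) ∣ k - 1 := by
      have h1 : a ^ (k * k - 1) = 1 := by rw [zpow_sub, hkk, zpow_one, mul_inv_cancel]
      have h2 := orderOf_dvd_iff_zpow_eq_one.2 h1
      rw [hn] at h2
      obtain ⟨l, hl⟩ := hk4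
      have h3 : k * k - 1 = 2 * ((k - 1) * (2 * l + 1)) := by
        have : k + 1 = 2 * (2 * l + 1) := by linarith
        calc k * k - 1 = (k - 1) * (k + 1) := by ring
          _ = _ := by rw [this]; ring
      have h4 : ((2 ^ (n + 1 + 1) : ℕ) : ℤ) = 2 * ((2 ^ (n + 1) : ℕ) : ℤ) := by push_cast; ring
      rw [h3, h4] at h2
      have h5 := (mul_dvd_mul_iff_left (two_ne_zero)).1 h2
      refine IsCoprime.dvd_of_dvd_mul_right ?_ h5
      push_cast
      apply IsCoprime.pow_left
      exact ⟨-l, 1, by ring⟩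
    have hsq : a ^ (k - 1) * a ^ (k - 1) = 1 := by
      rw [← zpow_add]
      apply orderOf_dvd_iff_zpow_eq_one.1
      rw [hn]
      obtain ⟨l, hl⟩ := hk2
      rw [hl]
      exact ⟨l, by push_cast; ring⟩
    have hxa : x * a * x⁻¹ = a * t := by
      rcases hu _ (zpow_mem (mem_zpowers a) _) hsq with h1 | h1
      · exfalso
        apply hxA
        apply hself x hxN
        have h2 : a ^ k = a := by
          have : k = (k - 1) + 1 := by ring
          rw [this, zpow_add, h1, one_mul, zpow_one]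
        rw [h2] at hk
        exact (mul_inv_eq_iff_eq_mul.1 hk.symm)
      · rw [← hk]
        have : k = 1 + (k - 1) := by ring
        rw [this, zpow_add, zpow_one, h1]
    have hn2 : 1 ≤ n := by
      by_contra hcon
      have hn0 : n = 0 := by omega
      subst hn0
      apply hxA
      apply hself x hxN
      obtain ⟨l, hl⟩ := hk4
      have h2 : a ^ k = a := by
        have : k = 1 + 4 * l := by linarith
        rw [this, zpow_add, zpow_one, zpow_mul]
        have : a ^ (4 : ℤ) = 1 := by
          apply orderOf_dvd_iff_zpow_eq_one.1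
          rw [hn]
          norm_num
        rw [this, one_zpow, mul_one]
      rw [h2] at hk
      exact (mul_inv_eq_iff_eq_mul.1 hk.symm)
    have hta : Commute t a := (htc' a).symm
    -- conjugation of powers of `a`
    have hxai : ∀ i : ℤ, x * a ^ i * x⁻¹ = a ^ i * t ^ i := fun i => by
      rw [← conj_zpow, hxa]
      exact Commute.mul_zpow hta.symm i
    have htev : ∀ i : ℤ, t ^ (2 * i) = 1 := fun i => by
      rw [zpow_mul, show ((2 : ℤ)) = ((2 : ℕ) : ℤ) from rfl, zpow_natCast, pow_two, htt, one_zpow]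
    have hxa2 : ∀ i : ℤ, x * a ^ (2 * i) = a ^ (2 * i) * x := fun i => by
      have := hxai (2 * i)
      rw [htev, mul_one] at this
      exact mul_inv_eq_iff_eq_mul.1 this
    obtain ⟨m, hm⟩ := mem_zpowers_iff.1 hxx
    have hmev : ∃ m', m = 2 * m' := by
      rcases Int.even_or_odd' m with ⟨m', h1 | h1⟩
      · exact ⟨m', h1⟩
      · exfalso
        have e1 := hxai m
        rw [hm] at e1
        have e2 : x * (x * x) * x⁻¹ = x * x := by group
        rw [e2] at e1
        have e3 : t ^ m = 1 := by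
          have : x * x * 1 = x * x * t ^ m := by rw [mul_one]; exact e1
          exact (mul_left_cancel this).symm
        rw [h1, zpow_add, htev, one_mul, zpow_one] at e3
        exact ht1 e3
    obtain ⟨m', rfl⟩ := hmev
    -- `u` is an even power of `a`
    have hue : u = a ^ (2 * ((2 ^ (n - 1) : ℕ) : ℤ)) := by
      rw [hu_def, ← zpow_natCast]
      congr 1
      obtain ⟨n₁, rfl⟩ : ∃ n₁, n = n₁ + 1 := ⟨n - 1, by omega⟩
      rw [Nat.add_sub_cancel, pow_succ]
      push_cast
      ring
    have key : ∃ b ∈ zpowers a, (x * b) * (x * b) = 1 := by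
      -- square of `y = x a ^ (-m')`
      have hb : a ^ (-m') ∈ zpowers a := zpow_mem (mem_zpowers a) _
      have hy2 : (x * a ^ (-m')) * (x * a ^ (-m')) = t ^ m' := by
        have e1 : x * a ^ (-m') = (a ^ (-m') * t ^ (-m')) * x := mul_inv_eq_iff_eq_mul.1 (hxai (-m'))
        calc (x * a ^ (-m')) * (x * a ^ (-m')) = ((a ^ (-m') * t ^ (-m')) * x) * (x * a ^ (-m')) := by rw [← e1]
          _ = a ^ (-m') * t ^ (-m') * (x * x) * a ^ (-m') := by group
          _ = t ^ (-m') * (a ^ (-m') * a ^ (2 * m') * a ^ (-m')) := by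
              rw [← hm, (hta.symm.zpow_zpow (-m') (-m')).eq]; group
          _ = t ^ (-m') := by
              rw [← zpow_add, ← zpow_add]
              have : -m' + 2 * m' + -m' = 0 := by ring
              rw [this, zpow_zero, mul_one]
          _ = t ^ m' := by
              have : -m' = m' + 2 * (-m') := by ring
              rw [this, zpow_add, htev, mul_one]
      rcases Int.even_or_odd' m' with ⟨l, h1 | h1⟩
      · refine ⟨_, hb, ?_⟩
        rw [hy2, h1, htev]
      · have hyt : t ^ m' = t := by rw [h1, zpow_add, htev, one_mul, zpow_one]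
        refine ⟨a ^ (-m') * u, mul_mem hb huA, ?_⟩
        have e1 : u * (x * a ^ (-m')) = (x * a ^ (-m')) * u := by
          rw [← mul_assoc, ← hxu, mul_assoc, hcomA u huA _ hb, mul_assoc]
        calc x * (a ^ (-m') * u) * (x * (a ^ (-m') * u)) = (x * a ^ (-m')) * (u * (x * a ^ (-m'))) * u := by group
          _ = (x * a ^ (-m')) * (x * a ^ (-m')) * (u * u) := by rw [e1]; group
          _ = 1 := by rw [hy2, hyt, huu, htt]
    obtain ⟨b, hb, hbb⟩ := key
    obtain ⟨j, rfl⟩ := mem_zpowers_iff.1 hb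
    refine hfour (x * a ^ j) (N.mul_mem hxN (hAN hb)) (fun h1 => hxA ?_) hbb ?_ ?_
    · have h2 := (zpowers a).mul_mem h1 (inv_mem hb)
      rw [mul_inv_cancel_right] at h2
      exact h2
    · intro g
      have h1 : g * (x * a ^ j) * g⁻¹ * (x * a ^ j)⁻¹ =
          (g * x * g⁻¹ * x⁻¹) * (x * ((g * a ^ j * g⁻¹) * (a ^ j)⁻¹) * x⁻¹) := by group
      rw [h1]
      exact mul_mem (hxg g) (hconjA x _ (mul_mem (hconjA g _ hb) (inv_mem hb)))
    · intro c hc h1
      obtain ⟨i, rfl⟩ := mem_zpowers_iff.1 hc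
      have e1 : x * a ^ j * a ^ i = (a ^ i * t ^ i) * (x * a ^ j) := by
        have e0 : x * a ^ i = (a ^ i * t ^ i) * x := mul_inv_eq_iff_eq_mul.1 (hxai i)
        calc x * a ^ j * a ^ i = x * (a ^ j * a ^ i) := by group
          _ = x * a ^ i * a ^ j := by rw [← zpow_add, add_comm, zpow_add]; group
          _ = _ := by rw [e0]; group
      have e2 : a ^ i * (x * a ^ j) * (a ^ i * (x * a ^ j)) = a ^ i * (a ^ i * t ^ i) := by
        calc a ^ i * (x * a ^ j) * (a ^ i * (x * a ^ j)) = a ^ i * (x * a ^ j * a ^ i) * (x * a ^ j) := by group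
          _ = a ^ i * (a ^ i * t ^ i) * ((x * a ^ j) * (x * a ^ j)) := by rw [e1]; group
          _ = _ := by rw [hbb, mul_one]
      rw [e2] at h1
      rcases Int.even_or_odd' i with ⟨l, h2 | h2⟩
      · apply hu _ hc
        rw [h2, htev, mul_one, ← h2] at h1
        exact h1
      · exfalso
        have h3 : a ^ (4 * i) = 1 := by
          have e3 : t ^ i = t := by rw [h2, zpow_add, htev, one_mul, zpow_one]
          rw [e3] at h1
          have e4 : a ^ i * a ^ i = t := by
            have : a ^ i * a ^ i * t = 1 := by rw [mul_assoc]; exact h1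
            rw [eq_inv_of_mul_eq_one_left this]
            exact inv_eq_of_mul_eq_one_left htt
          have : (4 : ℤ) * i = (i + i) + (i + i) := by ring
          rw [this, zpow_add, zpow_add, e4, htt]
        have h4 := orderOf_dvd_iff_zpow_eq_one.2 h3
        rw [hn] at h4
        have h5 : ((8 : ℕ) : ℤ) ∣ 4 * i := by
          refine dvd_trans ?_ h4
          exact_mod_cast (show (8 : ℕ) ∣ 2 ^ (n + 1 + 1) from by
            have : (8 : ℕ) = 2 ^ 3 := by norm_num
            rw [this]
            exact pow_dvd_pow 2 (by omega))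
        obtain ⟨r, hr⟩ := h5
        push_cast at hr
        omega
  -- the index
  refine ⟨zpowers a, hAN, inferInstance, ?_⟩
  have hlift : ∀ x y : N, (QuotientGroup.leftRel ((zpowers a).subgroupOf N)) x y →
      (decide ((x : P) * u * (x : P)⁻¹ = u)) = decide ((y : P) * u * (y : P)⁻¹ = u) := by
    intro x y hxy
    rw [QuotientGroup.leftRel_apply, mem_subgroupOf] at hxy
    have h1 : (y : P) * u * (y : P)⁻¹ = x * u * (x : P)⁻¹ := by
      have h2 : ((x⁻¹ * y : N) : P) * u = u * ((x⁻¹ * y : N) : P) := hcomA _ hxy _ huA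
      have h3 : (y : P) = x * ((x⁻¹ * y : N) : P) := by simp
      rw [h3]
      calc (x : P) * ((x⁻¹ * y : N) : P) * u * ((x : P) * ((x⁻¹ * y : N) : P))⁻¹ =
          (x : P) * (((x⁻¹ * y : N) : P) * u) * (((x⁻¹ * y : N) : P))⁻¹ * (x : P)⁻¹ := by group
        _ = _ := by rw [h2]; group
    rw [h1]
  let f : (N ⧸ (zpowers a).subgroupOf N) → Bool :=
    Quotient.lift (fun x : N => decide ((x : P) * u * (x : P)⁻¹ = u)) hlift
  have hinj : Function.Injective f := by
    intro X Y hXY
    induction X using Quotient.inductionOn with | _ x => ?_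
    induction Y using Quotient.inductionOn with | _ y => ?_
    have h1 : decide ((x : P) * u * (x : P)⁻¹ = u) = decide ((y : P) * u * (y : P)⁻¹ = u) := hXY
    rw [decide_eq_decide] at h1
    have h2 := hcommu x y h1
    have h3 := hcu ((x : P)⁻¹ * y) (N.mul_mem (N.inv_mem x.2) y.2) h2
    apply Quotient.sound
    show QuotientGroup.leftRel ((zpowers a).subgroupOf N) x y
    rw [QuotientGroup.leftRel_apply, mem_subgroupOf]
    exact h3
  have hcard := Nat.card_le_card_of_injective f hinj
  rw [Nat.card_eq_fintype_card (α := Bool), Fintype.card_bool] at hcard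
  exact hcard

/-- a subgroup of `N` with small exponent forces a four-group in `N` normal in `P` -/
theorem exists_four_of_exp [Finite P] (hP : IsPGroup 2 P) {N : Subgroup P} (hN : N.Normal) {D : Subgroup P}
    (hD : D ≤ N) {e : ℕ} (he0 : 0 < e) (he : ∀ x ∈ D, x ^ e = 1) (hcard : 2 * e < Nat.card D) :
    ∃ E : Subgroup P, E ≤ N ∧ E.Normal ∧ (∀ x ∈ E, x * x = 1) ∧ Nat.card E = 4 := by
  by_contra hcon
  push Not at hcon
  obtain ⟨C, hCN, hCc, hCi⟩ := cyc_of_no_four hP hN hcon
  have h1 : (C ⊓ D).relIndex D ≤ 2 := by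
    rw [inf_relIndex_right]
    exact (relIndex_le_of_le_right hD (index_ne_zero_of_finite (H := C.subgroupOf N))).trans hCi
  have h2 : Nat.card (C ⊓ D : Subgroup P) ≤ e := by
    have hcyc : IsCyclic (C ⊓ D : Subgroup P) := by
      have := Subgroup.isCyclic_of_le (inf_le_left : C ⊓ D ≤ C)
      exact this
    obtain ⟨g, hg⟩ := hcyc.exists_generator
    have h3 : Nat.card (C ⊓ D : Subgroup P) = orderOf g := (orderOf_eq_card_of_forall_mem_zpowers hg).symm
    rw [h3]
    refine Nat.le_of_dvd he0 (orderOf_dvd_of_pow_eq_one (Subtype.ext ?_))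
    exact he _ g.2.2
  have h3 : Nat.card D = (C ⊓ D).relIndex D * Nat.card (C ⊓ D : Subgroup P) := by
    have := relIndex_mul_relIndex (⊥ : Subgroup P) (C ⊓ D) D bot_le inf_le_right
    rw [relIndex_bot_left, relIndex_bot_left, mul_comm] at this
    exact this.symm
  have h4 : (C ⊓ D).relIndex D * Nat.card (C ⊓ D : Subgroup P) ≤ 2 * e := Nat.mul_le_mul h1 h2
  omega

end Cfsg.Agent.H706.Four
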